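import Mathlib

/-!
Interface for the 3-local recognition of `U₆(2)` and its extensions: the data read from the
centraliser `C` of the element `z` of order three.

`Q = ⟨p₁,a₁⟩ ∘ ⟨p₂,a₂⟩` is extraspecial of order `3^5`; the quaternion group `Oᵢ` acts on
`⟨pᵢ,aᵢ⟩` with central involution `sᵢ`; `y` is a conjugate of `z` in `C` outside `Q`, acting
non-trivially on both factors.  `J = ⟨z,a₁,a₂,y⟩` carries the form of minus type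
`ζ υ - ι₁² - ι₂²`, whose ten singular lines are the conjugates of `⟨z⟩` in `J`.
-/

set_option autoImplicit false

namespace CfsgLib.USixLocal

variable (G : Type*) [Group G]

/-- The configuration. -/
structure Loc where
  z : G
  a₁ : G
  p₁ : G
  a₂ : G
  p₂ : G
  y : G
  s₁ : G
  s₂ : G
  O₁ : Subgroup G
  O₂ : Subgroup G
  n : ℕ
  hn : n = 1 ∨ n = 2 ∨ n = 3 ∨ n = 6
  -- orders
  cube_z : z ^ 3 = 1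
  cube_a₁ : a₁ ^ 3 = 1
  cube_p₁ : p₁ ^ 3 = 1
  cube_a₂ : a₂ ^ 3 = 1
  cube_p₂ : p₂ ^ 3 = 1
  cube_y : y ^ 3 = 1
  z_ne : z ≠ 1
  -- commutation
  comm_za₁ : Commute z a₁
  comm_zp₁ : Commute z p₁
  comm_za₂ : Commute z a₂
  comm_zp₂ : Commute z p₂
  comm_zy : Commute z y
  comm_a₁a₂ : Commute a₁ a₂
  comm_p₁p₂ : Commute p₁ p₂
  comm_a₁p₂ : Commute a₁ p₂
  comm_p₁a₂ : Commute p₁ a₂
  comm_ya₁ : Commute y a₁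
  comm_ya₂ : Commute y a₂
  rel_p₁ : p₁ * a₁ * p₁⁻¹ * a₁⁻¹ = z
  rel_p₂ : p₂ * a₂ * p₂⁻¹ * a₂⁻¹ = z
  rel_yp₁ : y * p₁ * y⁻¹ = p₁ * a₁ * z
  rel_yp₂ : y * p₂ * y⁻¹ = p₂ * a₂ * z
  -- the quaternion groups
  card_O₁ : Nat.card O₁ = 8
  card_O₂ : Nat.card O₂ = 8
  O₁_s : ∀ w ∈ O₁, orderOf w = 2 ↔ w = s₁
  O₂_s : ∀ w ∈ O₂, orderOf w = 2 ↔ w = s₂
  s₁_mem : s₁ ∈ O₁
  s₂_mem : s₂ ∈ O₂
  O₁_comm : ∀ w ∈ O₁, Commute w z ∧ Commute w p₂ ∧ Commute w a₂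
  O₂_comm : ∀ w ∈ O₂, Commute w z ∧ Commute w p₁ ∧ Commute w a₁
  O_comm : ∀ v ∈ O₁, ∀ w ∈ O₂, Commute v w
  O₁_y : ∀ w ∈ O₁, y * w * y⁻¹ ∈ O₁
  O₂_y : ∀ w ∈ O₂, y * w * y⁻¹ ∈ O₂
  O₁_Q : ∀ w ∈ O₁, w * p₁ * w⁻¹ ∈ Subgroup.closure {z, a₁, p₁} ∧
    w * a₁ * w⁻¹ ∈ Subgroup.closure {z, a₁, p₁}
  O₂_Q : ∀ w ∈ O₂, w * p₂ * w⁻¹ ∈ Subgroup.closure {z, a₂, p₂} ∧
    w * a₂ * w⁻¹ ∈ Subgroup.closure {z, a₂, p₂}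
  s₁_p : s₁ * p₁ * s₁⁻¹ = p₁⁻¹
  s₁_a : s₁ * a₁ * s₁⁻¹ = a₁⁻¹
  s₂_p : s₂ * p₂ * s₂⁻¹ = p₂⁻¹
  s₂_a : s₂ * a₂ * s₂⁻¹ = a₂⁻¹
  comm_s₁y : Commute s₁ y
  comm_s₂y : Commute s₂ y
  -- the centraliser of `z`
  card_C : Nat.card (Subgroup.centralizer ({z} : Set G)) = 46656 * n
  card_Q : Nat.card (Subgroup.closure {z, a₁, p₁, a₂, p₂} : Subgroup G) = 243
  card_J : Nat.card (Subgroup.closure {z, a₁, a₂, y} : Subgroup G) = 81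
  C_Q : ∀ c, Commute c z → ∀ q ∈ Subgroup.closure ({z, a₁, p₁, a₂, p₂} : Set G),
    c * q * c⁻¹ ∈ Subgroup.closure ({z, a₁, p₁, a₂, p₂} : Set G)
  C_faithful : ∀ c, Commute c z →
    (∀ q ∈ Subgroup.closure ({z, a₁, p₁, a₂, p₂} : Set G), c * q * c⁻¹ * q⁻¹ ∈ Subgroup.zpowers z) →
      c ∈ Subgroup.closure ({z, a₁, p₁, a₂, p₂} : Set G)
  C_sides : ∀ c, Commute c z →
    (c * p₁ * c⁻¹ ∈ Subgroup.closure ({z, a₁, p₁} : Set G) ∧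
      c * a₁ * c⁻¹ ∈ Subgroup.closure ({z, a₁, p₁} : Set G) ∧
      c * p₂ * c⁻¹ ∈ Subgroup.closure ({z, a₂, p₂} : Set G) ∧
      c * a₂ * c⁻¹ ∈ Subgroup.closure ({z, a₂, p₂} : Set G)) ∨
    (c * p₁ * c⁻¹ ∈ Subgroup.closure ({z, a₂, p₂} : Set G) ∧
      c * a₁ * c⁻¹ ∈ Subgroup.closure ({z, a₂, p₂} : Set G) ∧
      c * p₂ * c⁻¹ ∈ Subgroup.closure ({z, a₁, p₁} : Set G) ∧
      c * a₂ * c⁻¹ ∈ Subgroup.closure ({z, a₁, p₁} : Set G))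
  sylow : ∃ S : Sylow 3 G, Subgroup.closure {z, a₁, p₁, a₂, p₂, y} ≤ (S : Subgroup G) ∧
    (S : Subgroup G) ≤ Subgroup.centralizer ({z} : Set G)
  -- fusion of `z`
  conj_y : IsConj z y
  weak_Q : ∀ g : G, g * z * g⁻¹ ∈ Subgroup.closure ({z, a₁, p₁, a₂, p₂} : Set G) →
    g * z * g⁻¹ ∈ Subgroup.zpowers z
  conj_mem_J : ∀ S : Sylow 3 G, Subgroup.closure {z, a₁, p₁, a₂, p₂, y} ≤ (S : Subgroup G) →
    ∀ g : G, g * z * g⁻¹ ∈ (S : Subgroup G) → g * z * g⁻¹ ∈ Subgroup.closure ({z, a₁, a₂, y} : Set G)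

variable {G}

/-- `Q`. -/
def Loc.Q (L : Loc G) : Subgroup G := Subgroup.closure {L.z, L.a₁, L.p₁, L.a₂, L.p₂}

/-- `J`. -/
def Loc.J (L : Loc G) : Subgroup G := Subgroup.closure {L.z, L.a₁, L.a₂, L.y}

/-- The centraliser of `z`. -/
def Loc.C (L : Loc G) : Subgroup G := Subgroup.centralizer {L.z}

end CfsgLib.USixLocal
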