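import Cfsg.Agent.Lib.USixLocal.Orbit

/-!
The normaliser of `J` preserves the form, is transitive on each of its values, and contains a
reflection, a conjugate of `s₁`, for each vector of norm `-1`.
-/

set_option autoImplicit false
set_option linter.style.haveILetI false

namespace CfsgLib.USixLocal

/-! ### Computations on the form -/

theorem qJ_smul (c : ZMod 3) (v : V) : qJ (c • v) = c ^ 2 * qJ v := by
  simp only [qJ, Pi.smul_apply, smul_eq_mul]; ring

theorem bJ_smul (c d : ZMod 3) (v w : V) : bJ (c • v) (d • w) = c * d * bJ v w := by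
  simp only [bJ, Pi.smul_apply, smul_eq_mul]; ring

theorem bJ_add_left (u v w : V) : bJ (u + v) w = bJ u w + bJ v w := by
  simp only [bJ, Pi.add_apply]; ring

theorem bJ_polar (v w : V) : bJ v w = qJ (v + w) - qJ v - qJ w := by rw [qJ_add]; ring

theorem qJ_lin (A : Fin 4 → V) (v : V) : qJ (lin A v) =
    v 0 ^ 2 * qJ (A 0) + v 1 ^ 2 * qJ (A 1) + v 2 ^ 2 * qJ (A 2) + v 3 ^ 2 * qJ (A 3) +
      v 0 * v 1 * bJ (A 0) (A 1) + v 0 * v 2 * bJ (A 0) (A 2) + v 0 * v 3 * bJ (A 0) (A 3) +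
      v 1 * v 2 * bJ (A 1) (A 2) + v 1 * v 3 * bJ (A 1) (A 3) + v 2 * v 3 * bJ (A 2) (A 3) := by
  simp only [lin, qJ_add, bJ_add_left, qJ_smul, bJ_smul]
  ring

/-- A linear map sending singular vectors to singular vectors multiplies the form by a constant. -/
theorem qJ_scale (A : Fin 4 → V) (h : ∀ v : V, qJ v = 0 → qJ (lin A v) = 0) (v : V) :
    qJ (lin A v) = bJ (A 0) (A 3) * qJ v := by
  have e0 := h ![1, 0, 0, 0] (by decide +kernel)
  have e3 := h ![0, 0, 0, 1] (by decide +kernel)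
  have a := h ![1, 1, 0, 1] (by decide +kernel)
  have b := h ![1, -1, 0, 1] (by decide +kernel)
  have c := h ![1, 0, 1, 1] (by decide +kernel)
  have d := h ![1, 0, -1, 1] (by decide +kernel)
  have f := h ![-1, 1, 1, 1] (by decide +kernel)
  have g := h ![-1, -1, -1, 1] (by decide +kernel)
  have k := h ![-1, 1, -1, 1] (by decide +kernel)
  rw [qJ_lin] at e0 e3 a b c d f g k
  simp [Matrix.cons_val_zero, Matrix.cons_val_one] at e0 e3 a b c d f g k
  have two : ∀ x : ZMod 3, 2 * x = 0 → x = 0 := by decide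
  have s1 : bJ (A 0) (A 1) + bJ (A 1) (A 3) = 0 := two _ (by linear_combination a - b)
  have s2 : bJ (A 0) (A 2) + bJ (A 2) (A 3) = 0 := two _ (by linear_combination c - d)
  have h11 : qJ (A 1) = -bJ (A 0) (A 3) := by linear_combination a - e0 - e3 - s1
  have h22 : qJ (A 2) = -bJ (A 0) (A 3) := by linear_combination c - e0 - e3 - s2
  have three : (3 : ZMod 3) = 0 := by decide
  have t1 : bJ (A 0) (A 1) + bJ (A 0) (A 2) + bJ (A 1) (A 2) = 0 := by
    linear_combination f - e0 - e3 - h11 - h22 - s1 - s2 +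
      (bJ (A 0) (A 1) + bJ (A 0) (A 2) + bJ (A 0) (A 3)) * three
  have t2 : -bJ (A 0) (A 1) - bJ (A 0) (A 2) + bJ (A 1) (A 2) = 0 := by
    linear_combination g - e0 - e3 - h11 - h22 + s1 + s2 -
      (bJ (A 0) (A 1) + bJ (A 0) (A 2) - bJ (A 0) (A 3)) * three
  have t3 : bJ (A 0) (A 1) - bJ (A 0) (A 2) - bJ (A 1) (A 2) = 0 := by
    linear_combination k - e0 - e3 - h11 - h22 - s1 + s2 +
      (bJ (A 0) (A 1) - bJ (A 0) (A 2) + bJ (A 0) (A 3)) * three
  have h12 : bJ (A 1) (A 2) = 0 := two _ (by linear_combination t1 + t2)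
  have h01 : bJ (A 0) (A 1) = 0 := two _ (by linear_combination t1 + t3)
  have h02 : bJ (A 0) (A 2) = 0 := by linear_combination t1 - h01 - h12
  have h13 : bJ (A 1) (A 3) = 0 := by linear_combination s1 - h01
  have h23 : bJ (A 2) (A 3) = 0 := by linear_combination s2 - h02
  rw [qJ_lin, h12, h22, h02, h01, h23, h13, h11, e0, e3]
  simp only [qJ]
  ring

theorem fp₂_fixed : ∀ w : V, fp₂ w = w → w 2 = 0 ∧ w 3 = 0 := by decide +kernel
theorem fp₁_fixed : ∀ w : V, fp₁ w = w → w 1 = 0 ∧ w 3 = 0 := by decide +kernel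
theorem qJ_axis : ∀ w : V, w 3 = 0 → (w 1 = 0 ∨ w 2 = 0) → (∀ k : ZMod 3, w ≠ k • ![1, 0, 0, 0]) →
    qJ w = 2 := by decide +kernel

theorem bJ_e1 : ∀ v : V, fs₁ v = v + bJ v ![0, 1, 0, 0] • ![0, 1, 0, 0] := by decide +kernel

theorem count_off : (Finset.univ.filter fun v : V => v 3 ≠ 0 ∧ qJ v = 0).card = 18 := by decide +kernel

theorem key_split : ∀ x : ZMod 3, x ≠ 0 → x = 1 ∨ x = -1 := by decide

theorem qJ_fp_iter (i j : ℕ) (v : V) : qJ (fp₁^[i] (fp₂^[j] v)) = qJ v := by
  have h1 : ∀ (n : ℕ) (w : V), qJ (fp₁^[n] w) = qJ w := by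
    intro n; induction n with
    | zero => exact fun w => rfl
    | succ n ih => intro w; rw [Function.iterate_succ', Function.comp_apply, qJ_fp₁, ih]
  have h2 : ∀ (n : ℕ) (w : V), qJ (fp₂^[n] w) = qJ w := by
    intro n; induction n with
    | zero => exact fun w => rfl
    | succ n ih => intro w; rw [Function.iterate_succ', Function.comp_apply, qJ_fp₂, ih]
  rw [h1, h2]

theorem reps_ns : ∀ v : V, v 3 = 0 → qJ v ≠ 0 → ∃ i j : Fin 3, ∃ b b' : Bool,
    (bif b then fs₁ else id) ((bif b' then fs₂ else id) (fp₁^[i] (fp₂^[j]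
      (if v 1 = 0 then ![0, 0, 1, 0] else if v 2 = 0 then ![0, 1, 0, 0] else ![0, 1, 1, 0])))) = v := by
  decide +kernel

variable {G : Type*} [Group G] (L : Loc G)

theorem mem_C_of_fix {g : G} {f : V → V} (h : L.Act g f) (hf : f ![1, 0, 0, 0] = ![1, 0, 0, 0]) :
    Commute g L.z := by
  have := h ![1, 0, 0, 0]
  rw [hf, jel_z] at this
  exact mul_inv_eq_iff_eq_mul.1 this

theorem side₁_comm {x : G} (hx : x ∈ Subgroup.closure ({L.z, L.a₁, L.p₁} : Set G)) : Commute L.p₂ x := by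
  induction hx using Subgroup.closure_induction with
  | mem x hx =>
    simp only [Set.mem_insert_iff, Set.mem_singleton_iff] at hx
    rcases hx with rfl | rfl | rfl
    exacts [L.comm_zp₂.symm, L.comm_a₁p₂.symm, L.comm_p₁p₂.symm]
  | one => exact Commute.one_right _
  | mul x y _ _ hx hy => exact hx.mul_right hy
  | inv x _ hx => exact hx.inv_right

theorem side₂_comm {x : G} (hx : x ∈ Subgroup.closure ({L.z, L.a₂, L.p₂} : Set G)) : Commute L.p₁ x := by
  induction hx using Subgroup.closure_induction with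
  | mem x hx =>
    simp only [Set.mem_insert_iff, Set.mem_singleton_iff] at hx
    rcases hx with rfl | rfl | rfl
    exacts [L.comm_zp₁.symm, L.comm_p₁a₂, L.comm_p₁p₂]
  | one => exact Commute.one_right _
  | mul x y _ _ hx hy => exact hx.mul_right hy
  | inv x _ hx => exact hx.inv_right

theorem scale_exists [Finite G] {g : G} {f : V → V} (hf : L.Act g f) :
    ∃ c : ZMod 3, c ≠ 0 ∧ ∀ v, qJ (f v) = c * qJ v := by
  have hsing : ∀ v : V, qJ v = 0 → qJ (f v) = 0 := by
    intro v hq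
    by_cases hv : v = 0
    · rw [hv, hf.map_zero]; exact hv ▸ hq
    · exact (isConj_z_iff L (hf.map_ne hv)).1 ((isConj_sing L hv hq).trans (isConj_of_act L hf v))
  set A : Fin 4 → V := ![f ![1, 0, 0, 0], f ![0, 1, 0, 0], f ![0, 0, 1, 0], f ![0, 0, 0, 1]] with hA
  have e : f = lin A := hf.eq_lin
  have hs := qJ_scale A (fun w hw => e ▸ hsing w hw)
  refine ⟨bJ (A 0) (A 3), fun h0 => ?_, fun v => e ▸ hs v⟩
  obtain ⟨w, hw⟩ := hf.bijective.2 ![0, 0, 1, 0]
  have := hs w
  rw [← e, hw, h0, zero_mul] at this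
  exact absurd this (by decide +kernel)

/-- The stabiliser of `z` preserves the form. -/
theorem qJ_of_fix [Finite G] {g : G} {f : V → V} (hf : L.Act g f)
    (hz : f ![1, 0, 0, 0] = ![1, 0, 0, 0]) (v : V) : qJ (f v) = qJ v := by
  obtain ⟨c, -, hq⟩ := scale_exists L hf
  set w := f ![0, 1, 0, 0] with hw
  have hc := mem_C_of_fix L hf hz
  have haxis : w 3 = 0 ∧ (w 1 = 0 ∨ w 2 = 0) := by
    rcases L.C_sides g hc with ⟨-, h, -, -⟩ | ⟨-, h, -, -⟩
    · replace h : L.jel w ∈ Subgroup.closure ({L.z, L.a₁, L.p₁} : Set G) := by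
        rw [hw, ← hf, jel_a1]; exact h
      obtain ⟨h2, h3⟩ := fp₂_fixed w (jel_injective L (by rw [← act_p₂ L]; exact fix_eq (side₁_comm L h)))
      exact ⟨h3, Or.inr h2⟩
    · replace h : L.jel w ∈ Subgroup.closure ({L.z, L.a₂, L.p₂} : Set G) := by
        rw [hw, ← hf, jel_a1]; exact h
      obtain ⟨h1, h3⟩ := fp₁_fixed w (jel_injective L (by rw [← act_p₁ L]; exact fix_eq (side₂_comm L h)))
      exact ⟨h3, Or.inl h1⟩
  have h2 := qJ_axis w haxis.1 haxis.2 fun k hk => by
    rw [← hz, ← hf.map_smul] at hk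
    exact (show ∀ k : ZMod 3, (![0, 1, 0, 0] : V) ≠ k • ![1, 0, 0, 0] by decide +kernel) k (hf.injective hk)
  rw [hw, hq, show qJ ![0, 1, 0, 0] = (2 : ZMod 3) by decide +kernel] at h2
  rw [hq, (show ∀ c : ZMod 3, c * 2 = 2 → c = 1 by decide) c h2, one_mul]

/-- The normaliser of `J` preserves the form. -/
theorem qJ_act [Finite G] {g : G} {f : V → V} (hf : L.Act g f) (v : V) : qJ (f v) = qJ v := by
  classical
  by_contra hne
  obtain ⟨c, hc, hq⟩ := scale_exists L hf
  rcases key_split c hc with rfl | rfl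
  · exact hne (by rw [hq, one_mul])
  let S : Bool → V → Prop := fun b v => ∃ h k, L.Act h k ∧ k ![1, 0, 0, 0] = v ∧
    ∀ w, qJ (k w) = (bif b then 1 else -1) * qJ w
  have hdisj : ∀ v, S true v → ¬ S false v := by
    rintro v ⟨h, k, hk, e, h1⟩ ⟨h', k', hk', e', h2⟩
    obtain ⟨ki, hki, hii⟩ := hk.inv
    have hz : (ki ∘ k') ![1, 0, 0, 0] = ![1, 0, 0, 0] :=
      hk.injective (by rw [Function.comp_apply, hii, e, e'])
    have h3 := qJ_of_fix L (hki.mul hk') hz ![0, 0, 1, 0]
    have h4 := h1 (ki (k' ![0, 0, 1, 0]))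
    rw [hii, h2, ← Function.comp_apply (f := ki) (g := k'), h3] at h4
    exact absurd h4 (by decide +kernel)
  have hswap : ∀ b v, S b v → S (!b) (f v) := by
    rintro b v ⟨h, k, hk, e, h1⟩
    refine ⟨_, _, hf.mul hk, by rw [Function.comp_apply, e], fun w => ?_⟩
    rw [Function.comp_apply, hq, h1]
    cases b <;> simp
  have hstep : ∀ {x : G} {r : V → V}, L.Act x r → (∀ w, qJ (r w) = qJ w) → ∀ b v, S b v → S b (r v) := by
    rintro x r hx hr b v ⟨h, k, hk, e, h1⟩
    exact ⟨_, _, hx.mul hk, by rw [Function.comp_apply, e], fun w => by rw [Function.comp_apply, hr, h1]⟩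
  obtain ⟨m, fy, hfy, ey⟩ := exists_moved L (v := ![1, 0, 0, 0]) (w := ![0, 0, 0, 1])
    (by rw [jel_z, jel_y]; exact L.conj_y)
  obtain ⟨cy, hcy, hqy⟩ := scale_exists L hfy
  obtain ⟨b1, hY0⟩ : ∃ b1, S b1 ![0, 0, 0, 1] := ⟨decide (cy = 1), m, fy, hfy, ey, fun w => by
    rw [hqy]
    rcases key_split cy hcy with rfl | rfl <;> rfl⟩
  have htot : ∀ b v, S b v → v ≠ 0 ∧ qJ v = 0 := by
    rintro b v ⟨h, k, hk, rfl, h1⟩
    exact ⟨hk.map_ne (by decide), by rw [h1, show qJ ![1, 0, 0, 0] = 0 by decide +kernel, mul_zero]⟩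
  let T := fun b => Finset.univ.filter (S b)
  have hmemT : ∀ b v, v ∈ T b ↔ S b v := fun b v => by simp [T]
  have hb : ∀ b, (T b).card ≤ (T (!b)).card := fun b => Finset.card_le_card_of_injOn f
    (fun v hv => (hmemT _ _).2 (hswap b v ((hmemT _ _).1 hv))) hf.injective.injOn
  have hshift : ∀ b v (i j : ℕ), S b v → S b (fp₁^[i] (fp₂^[j] v)) := fun b v i j h =>
    hstep ((Act_iterate L (act_p₁ L) i).mul (Act_iterate L (act_p₂ L) j)) (qJ_fp_iter i j) b v h
  have hY : ∀ v : V, v 3 = 1 → qJ v = 0 → S b1 v := by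
    intro v h3 hv
    obtain ⟨i, j, b, e⟩ := reps_off v (by rw [h3]; decide)
    rw [hv] at e
    cases b
    · have h' := congrFun e 3
      rw [h3] at h'
      exact absurd h' ((show ∀ i j : Fin 3, (1 : ZMod 3) ≠ (fp₁^[i] (fp₂^[j] (-![0, 0, 0, 1]))) 3 by
        decide +kernel) i j)
    · rw [e]; exact hshift b1 _ i j hY0
  have h9 : 9 ≤ (T b1).card := by
    refine le_trans (le_of_eq (show 9 = (Finset.univ.filter fun v : V => v 3 = 1 ∧ qJ v = 0).card by
      decide +kernel)) (Finset.card_le_card fun v hv => (hmemT _ _).2 ?_)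
    exact hY v (Finset.mem_filter.1 hv).2.1 (Finset.mem_filter.1 hv).2.2
  -- a form preserving element negating `z`
  have hneg : S true (-![1, 0, 0, 0]) := by
    by_contra hn
    let P : Finset (ZMod 3 × Bool) := Finset.univ.filter fun c =>
      S true (bif c.2 then ![c.1, 0, 0, 1] else -![c.1, 0, 0, 1])
    have hTP : T true = Finset.univ.filter
        (fun v : V => v = ![1, 0, 0, 0] ∨ (v 3 ≠ 0 ∧ (qJ v, decide (v 3 = 1)) ∈ P)) := by
      ext v
      simp only [hmemT, P, Finset.mem_filter, Finset.mem_univ, true_and]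
      by_cases h3 : v 3 = 0
      · constructor
        · intro h
          rcases sing_R0 v (htot _ v h).1 h3 (htot _ v h).2 with e | e
          · exact Or.inl e
          · exact absurd (e ▸ h) hn
        · rintro (rfl | ⟨h, -⟩)
          · exact ⟨1, id, Loc.Act.one, rfl, fun w => (one_mul _).symm⟩
          · exact absurd h3 h
      · obtain ⟨i, j, b, e⟩ := reps_off v h3
        have hb3 : decide (v 3 = 1) = b := by
          have key : ∀ (i j : Fin 3) (b : Bool) (c : ZMod 3),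
              decide ((fp₁^[i] (fp₂^[j] (bif b then ![c, 0, 0, 1] else -![c, 0, 0, 1]))) 3 = 1) = b := by
            decide +kernel
          rw [congrFun e 3]; exact key i j b _
        rw [hb3]
        set r := bif b then ![qJ v, 0, 0, 1] else -![qJ v, 0, 0, 1] with hr
        have iter : ∀ (i j : Fin 3) (w : V), ∃ i' j' : Fin 3, fp₁^[i'] (fp₂^[j'] (fp₁^[i] (fp₂^[j] w))) = w :=
          fun i j w => ⟨-i, -j, (show ∀ (i j : Fin 3) (w : V),
            fp₁^[((-i : Fin 3) : ℕ)] (fp₂^[((-j : Fin 3) : ℕ)] (fp₁^[i] (fp₂^[j] w))) = w by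
              decide +kernel) i j w⟩
        constructor
        · intro h
          refine Or.inr ⟨h3, ?_⟩
          obtain ⟨i', j', e'⟩ := iter i j r
          rw [← e] at e'
          rw [← e']
          exact hshift true v i' j' h
        · rintro (rfl | ⟨-, h⟩)
          · exact absurd rfl h3
          · rw [e]; exact hshift true r i j h
    have hfix : ∀ {h : G} {k : V → V}, L.Act h k → (∀ w, qJ (k w) = qJ w) →
        k ![1, 0, 0, 0] = ![1, 0, 0, 0] := by
      intro h k hk hqk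
      obtain ⟨ki, hki, hii⟩ := hk.inv
      have hqi : ∀ w, qJ (ki w) = qJ w := fun w => by rw [← hqk (ki w), hii]
      have h1 : k (∑ v ∈ T true, v) = ∑ v ∈ T true, k v := map_sum (AddMonoidHom.mk' k hk.add) _ _
      have h2 : ∑ v ∈ T true, k v = ∑ v ∈ T true, v :=
        Finset.sum_nbij' k ki (fun v hv => (hmemT _ _).2 (hstep hk hqk _ v ((hmemT _ _).1 hv)))
          (fun v hv => (hmemT _ _).2 (hstep hki hqi _ v ((hmemT _ _).1 hv)))
          (fun v _ => hk.injective (hii _)) (fun v _ => hii v) (fun v _ => rfl)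
      rw [h2, hTP, sum_classes] at h1
      exact h1
    have h1 : (T true).card ≤ 1 := by
      refine le_trans (Finset.card_le_card (t := {![1, 0, 0, 0]}) fun v hv => ?_) (by simp)
      obtain ⟨h, k, hk, rfl, h1⟩ := (hmemT _ _).1 hv
      exact Finset.mem_singleton.2 (hfix hk fun w => by rw [h1]; exact one_mul _)
    have := hb false
    have := hb true
    simp only [Bool.not_false, Bool.not_true] at *
    cases b1 <;> omega
  obtain ⟨n, fn, hfn, en, hqn⟩ := hneg
  -- each class is closed under negation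
  have hclosed : ∀ b v, S b v → S b (-v) := by
    rintro b v ⟨h, k, hk, rfl, h1⟩
    refine ⟨_, _, hk.mul hfn, by rw [Function.comp_apply, en, hk.map_neg], fun w => ?_⟩
    rw [Function.comp_apply, h1, hqn, cond_true, one_mul]
  have hu : (T true).card + (T false).card ≤ 20 := by
    rw [← Finset.card_union_of_disjoint (Finset.disjoint_left.2 fun v a b =>
      hdisj v ((hmemT _ _).1 a) ((hmemT _ _).1 b))]
    refine le_trans (Finset.card_le_card fun v hv => ?_) (le_of_eq count_sing)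
    rcases Finset.mem_union.1 hv with h | h <;>
      exact Finset.mem_filter.2 ⟨Finset.mem_univ _, htot _ v ((hmemT _ _).1 h)⟩
  have h18 : 18 ≤ (T b1).card := by
    refine le_trans (le_of_eq count_off.symm) (Finset.card_le_card fun v hv => (hmemT _ _).2 ?_)
    simp only [Finset.mem_filter, Finset.mem_univ, true_and] at hv
    rcases key_split _ hv.1 with h | h
    · exact hY v h hv.2
    · rw [← neg_neg v]
      exact hclosed b1 _ (hY (-v) (by rw [Pi.neg_apply, h, neg_neg]) (by rw [qJ_neg]; exact hv.2))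
  have := hb false
  have := hb true
  simp only [Bool.not_false, Bool.not_true] at *
  cases b1 <;> omega

theorem bJ_act [Finite G] {g : G} {f : V → V} (hf : L.Act g f) (v w : V) : bJ (f v) (f w) = bJ v w := by
  rw [bJ_polar, bJ_polar, ← hf.add, qJ_act L hf, qJ_act L hf, qJ_act L hf]

/-- `w` is the image of `v` under the normaliser. -/
def Loc.Reach (L : Loc G) (v w : V) : Prop := ∃ n f, L.Act n f ∧ f v = w

variable {L}

theorem Loc.Reach.trans {u v w : V} (h : L.Reach u v) (h' : L.Reach v w) : L.Reach u w := by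
  obtain ⟨n, f, hf, rfl⟩ := h
  obtain ⟨n', f', hf', rfl⟩ := h'
  exact ⟨_, _, hf'.mul hf, rfl⟩

theorem Loc.Reach.symm {v w : V} (h : L.Reach v w) : L.Reach w v := by
  obtain ⟨n, f, hf, rfl⟩ := h
  obtain ⟨fi, hfi, hii⟩ := hf.inv
  exact ⟨_, _, hfi, hf.injective (hii _)⟩

variable (L)

theorem reach_fp (i j : ℕ) (v : V) : L.Reach v (fp₁^[i] (fp₂^[j] v)) :=
  ⟨_, _, (Act_iterate L (act_p₁ L) i).mul (Act_iterate L (act_p₂ L) j), rfl⟩

theorem reach_s (b b' : Bool) (v : V) :
    L.Reach v ((bif b then fs₁ else id) ((bif b' then fs₂ else id) v)) := by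
  have h1 : ∃ n, L.Act n (bif b then fs₁ else id) := by
    cases b; exacts [⟨1, Loc.Act.one⟩, ⟨_, act_s₁ L⟩]
  have h2 : ∃ n, L.Act n (bif b' then fs₂ else id) := by
    cases b'; exacts [⟨1, Loc.Act.one⟩, ⟨_, act_s₂ L⟩]
  obtain ⟨n, hn⟩ := h1
  obtain ⟨n', hn'⟩ := h2
  exact ⟨_, _, hn.mul hn', rfl⟩

/-- Every vector of non zero norm reaches the representative off the hyperplane. -/
theorem reach_off [Finite G] {v : V} (hq : qJ v ≠ 0) : L.Reach ![qJ v, 0, 0, 1] v := by
  have off : ∀ w : V, w 3 ≠ 0 → L.Reach ![qJ w, 0, 0, 1] w := by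
    intro w h3
    obtain ⟨i, j, b, e⟩ := reps_off w h3
    have h := reach_fp L i j (bif b then ![qJ w, 0, 0, 1] else -![qJ w, 0, 0, 1])
    rw [← e] at h
    cases b
    · -- move across the sign with an element negating `z`
      obtain ⟨n, f, hf, ef⟩ := exists_flip L
      refine Loc.Reach.trans ?_ h
      obtain ⟨i', j', b', e'⟩ := reps_off (f ![qJ w, 0, 0, 1]) (by
        intro h0
        have h1 := bJ_act L hf ![qJ w, 0, 0, 1] ![1, 0, 0, 0]
        rw [ef] at h1
        simp [bJ, h0] at h1)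
      rw [qJ_act L hf, (show ∀ c : ZMod 3, qJ ![c, 0, 0, 1] = c by decide +kernel)] at e'
      have hb' : b' = false := by
        have h1 := bJ_act L hf ![qJ w, 0, 0, 1] ![1, 0, 0, 0]
        rw [ef, e'] at h1
        exact (show ∀ (i j : Fin 3) (b : Bool) (c : ZMod 3),
          bJ (fp₁^[i] (fp₂^[j] (bif b then ![c, 0, 0, 1] else -![c, 0, 0, 1]))) (-![1, 0, 0, 0]) =
            bJ ![c, 0, 0, 1] ![1, 0, 0, 0] → b = false by decide +kernel) i' j' b' _ h1
      subst hb'
      exact Loc.Reach.trans ⟨n, f, hf, e'⟩ (Loc.Reach.symm (reach_fp L i' j' _))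
    · exact h
  suffices h : ∃ w, L.Reach v w ∧ w 3 ≠ 0 by
    obtain ⟨w, hw, h3⟩ := h
    obtain ⟨n, f, hf, rfl⟩ := hw
    refine Loc.Reach.trans ?_ (Loc.Reach.symm (v := v) (w := f v) ⟨n, f, hf, rfl⟩)
    have := off (f v) h3
    rwa [qJ_act L hf] at this
  by_contra h
  push Not at h
  have hv3 : v 3 = 0 := h v ⟨1, id, Loc.Act.one, rfl⟩
  obtain ⟨m, fy, hfy, ey⟩ := exists_moved L (v := ![1, 0, 0, 0]) (w := ![0, 0, 0, 1])
    (by rw [jel_z, jel_y]; exact L.conj_y)
  have key : ∀ v : V, v 3 = 0 → qJ v ≠ 0 → ∃ b : Bool, ∃ k : ZMod 3, k ≠ 0 ∧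
      (bif b then fp₁ else fp₂) v = k • ![1, 0, 0, 0] + v := by decide +kernel
  obtain ⟨b, k, hk0, hk⟩ := key v hv3 hq
  have h1 : fy ((bif b then fp₁ else fp₂) v) 3 = 0 := by
    cases b
    · exact h _ ⟨_, _, hfy.mul (act_p₂ L), rfl⟩
    · exact h _ ⟨_, _, hfy.mul (act_p₁ L), rfl⟩
  have h2 : fy v 3 = 0 := h _ ⟨_, _, hfy, rfl⟩
  rw [hk, hfy.add, hfy.map_smul, ey, Pi.add_apply, h2, add_zero, Pi.smul_apply] at h1
  exact hk0 (by simpa using h1)

/-- The normaliser of `J` is transitive on each value of the form. -/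
theorem exists_conj [Finite G] {v w : V} (hv : v ≠ 0) (hw : w ≠ 0) (h : qJ v = qJ w) :
    ∃ n f, L.Act n f ∧ f v = w := by
  by_cases hq : qJ v = 0
  · exact exists_moved L ((isConj_sing L hv hq).symm.trans (isConj_sing L hw (h ▸ hq)))
  · exact (reach_off L hq).symm.trans (h ▸ reach_off L (h ▸ hq))

/-- Conjugacy in `J`. -/
theorem isConj_jel_iff [Finite G] {v w : V} (hv : v ≠ 0) (hw : w ≠ 0) :
    IsConj (L.jel v) (L.jel w) ↔ qJ v = qJ w := by
  refine ⟨fun h => ?_, fun h => ?_⟩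
  · obtain ⟨n, f, hf, rfl⟩ := exists_moved L h
    exact (qJ_act L hf v).symm
  · obtain ⟨n, f, hf, rfl⟩ := exists_conj L hv hw h
    exact isConj_of_act L hf v

/-- Reflections. -/
theorem exists_refl [Finite G] {d : V} (hd : qJ d = -1) :
    ∃ r, r * r = 1 ∧ IsConj L.s₁ r ∧ L.Act r (fun v => v + bJ v d • d) := by
  obtain ⟨n, f, hf, hfd⟩ := exists_conj L (v := ![0, 1, 0, 0]) (w := d) (by decide)
    (fun h0 => by rw [h0] at hd; exact absurd hd (by decide +kernel)) (by rw [hd]; decide +kernel)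
  obtain ⟨fi, hfi, hii⟩ := hf.inv
  have hs2 : L.s₁ * L.s₁ = 1 := by
    rw [← pow_two, ← (L.O₁_s _ L.s₁_mem).2 rfl, pow_orderOf_eq_one]
  refine ⟨n * L.s₁ * n⁻¹, ?_, isConj_iff.2 ⟨n, rfl⟩,
    ((hf.mul (act_s₁ L)).mul hfi).congr fun v => ?_⟩
  · rw [show n * L.s₁ * n⁻¹ * (n * L.s₁ * n⁻¹) = n * (L.s₁ * L.s₁) * n⁻¹ by group, hs2]; group
  · simp only [Function.comp_apply]
    rw [bJ_e1, hf.add, hii, hf.map_smul, hfd, ← bJ_act L hf (fi v), hii, hfd]

end CfsgLib.USixLocal
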