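import Cfsg.Agent.Lib.USixLocal.Coords

/-!
The orbit of `z` on `J` under the normaliser of `J`: the twenty singular vectors.
-/

set_option autoImplicit false
set_option linter.style.haveILetI false

namespace CfsgLib.USixLocal

open scoped Pointwise

/-! ### Computations on the form -/

theorem reps_off : ∀ v : V, v 3 ≠ 0 → ∃ i j : Fin 3, ∃ b : Bool,
    v = fp₁^[i] (fp₂^[j] (bif b then ![qJ v, 0, 0, 1] else -![qJ v, 0, 0, 1])) := by decide +kernel

theorem sing_R0 : ∀ v : V, v ≠ 0 → v 3 = 0 → qJ v = 0 → v = ![1, 0, 0, 0] ∨ v = -![1, 0, 0, 0] := by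
  decide +kernel

theorem qJ_neg (v : V) : qJ (-v) = qJ v := by simp only [qJ, Pi.neg_apply]; ring

theorem qJ_fp₁ (v : V) : qJ (fp₁ v) = qJ v := by revert v; decide +kernel
theorem qJ_fp₂ (v : V) : qJ (fp₂ v) = qJ v := by revert v; decide +kernel

theorem count_sing : (Finset.univ.filter fun v : V => v ≠ 0 ∧ qJ v = 0).card = 20 := by decide +kernel

theorem count_big : ∀ S : Finset (ZMod 3), S ≠ ∅ → (0 : ZMod 3) ∉ S →
    ¬ (Finset.univ.filter fun v : V => v ≠ 0 ∧ (qJ v = 0 ∨ (v 3 ≠ 0 ∧ qJ v ∈ S))).card ∣ 24261120 := by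
  intro S h1 h0
  have hS : S = {1} ∨ S = {2} ∨ S = {1, 2} := by revert S; decide
  rcases hS with rfl | rfl | rfl <;> decide +kernel

theorem sum_classes : ∀ T : Finset (ZMod 3 × Bool),
    ∑ v ∈ Finset.univ.filter (fun v : V => v = ![1, 0, 0, 0] ∨ (v 3 ≠ 0 ∧ (qJ v, decide (v 3 = 1)) ∈ T)), v
      = ![1, 0, 0, 0] := by decide +kernel

theorem card_aut_V : Nat.card (V ≃ₗ[ZMod 3] V) = 24261120 := by
  haveI : Fact (Nat.Prime 3) := ⟨Nat.prime_three⟩
  rw [← Nat.card_congr (Matrix.GeneralLinearGroup.toLin.trans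
    (LinearMap.GeneralLinearGroup.generalLinearEquiv (ZMod 3) V)).toEquiv, Matrix.card_GL_field]
  simp [Fin.prod_univ_four]

variable {G : Type*} [Group G] (L : Loc G)

/-- The normaliser of `J`. -/
abbrev Loc.NJ (L : Loc G) : Subgroup G := Subgroup.normalizer (L.J : Set G)

variable {L}

theorem Loc.Act.map_zero {g : G} {f : V → V} (h : L.Act g f) : f 0 = 0 := by simpa using h.add 0 0

theorem Loc.Act.map_neg {g : G} {f : V → V} (h : L.Act g f) (v : V) : f (-v) = -f v :=
  (AddMonoidHom.mk' f h.add).map_neg v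

theorem Loc.Act.map_smul {g : G} {f : V → V} (h : L.Act g f) (c : ZMod 3) (v : V) : f (c • v) = c • f v :=
  ((AddMonoidHom.mk' f h.add).toZModLinearMap 3).map_smul c v

theorem Loc.Act.map_ne {g : G} {f : V → V} (h : L.Act g f) {v : V} (hv : v ≠ 0) : f v ≠ 0 :=
  fun h0 => hv (h.injective (h0.trans h.map_zero.symm))

theorem Loc.Act.inv {g : G} {f : V → V} (h : L.Act g f) :
    ∃ f', L.Act g⁻¹ f' ∧ ∀ v, f (f' v) = v := by
  obtain ⟨f', hf'⟩ := exists_act_map L (inv_mem h.mem_normalizer)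
  refine ⟨f', hf', fun v => ?_⟩
  exact congrFun (((h.mul hf').congr fun _ => rfl).unique
    ((mul_inv_cancel g).symm ▸ Loc.Act.one (L := L))) v

variable (L)

theorem Act_iterate {g : G} {f : V → V} (h : L.Act g f) (n : ℕ) : L.Act (g ^ n) f^[n] := by
  induction n with
  | zero => rw [pow_zero]; exact Loc.Act.one
  | succ n ih => rw [pow_succ, Function.iterate_succ]; exact ih.mul h

/-- Conjugacy in `J` under an acting element. -/
theorem isConj_of_act {g : G} {f : V → V} (h : L.Act g f) (v : V) : IsConj (L.jel v) (L.jel (f v)) :=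
  isConj_iff.2 ⟨g, h v⟩

theorem isConj_shift (i j : ℕ) (v : V) : IsConj (L.jel v) (L.jel (fp₁^[i] (fp₂^[j] v))) :=
  isConj_of_act L ((Act_iterate L (act_p₁ L) i).mul (Act_iterate L (act_p₂ L) j)) v

/-- A Sylow subgroup over `J` has `J` as the closure of its conjugates of `z`. -/
theorem exists_sylow : ∃ S : Sylow 3 G, L.J ≤ (S : Subgroup G) ∧
    ∀ g : G, g * L.z * g⁻¹ ∈ (S : Subgroup G) → g * L.z * g⁻¹ ∈ L.J := by
  obtain ⟨S, hS, -⟩ := L.sylow
  refine ⟨S, le_trans (Subgroup.closure_mono ?_) hS, L.conj_mem_J S hS⟩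
  intro x; simp only [Set.mem_insert_iff, Set.mem_singleton_iff]; tauto

/-- `J` is generated by conjugates of `z`. -/
theorem exists_gens : ∃ A : Fin 4 → V, (∀ k, IsConj L.z (L.jel (A k))) ∧
    ∀ v : V, ∃ c : Fin 4 → ZMod 3, v = c 0 • A 0 + c 1 • A 1 + c 2 • A 2 + c 3 • A 3 := by
  refine ⟨![![1, 0, 0, 0], ![0, 0, 0, 1], fp₁ ![0, 0, 0, 1], fp₂ ![0, 0, 0, 1]], fun k => ?_, fun v =>
    ⟨![v 0 + v 1 + v 2, v 3 + v 1 + v 2, -v 1, -v 2], ?_⟩⟩
  · fin_cases k
    · exact (jel_z L).symm ▸ IsConj.refl _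
    · exact (jel_y L).symm ▸ L.conj_y
    · exact L.conj_y.trans ((jel_y L) ▸ isConj_of_act L (act_p₁ L) _)
    · exact L.conj_y.trans ((jel_y L) ▸ isConj_of_act L (act_p₂ L) _)
  · funext i
    fin_cases i <;> simp [fp₁, fp₂] <;> ring

theorem conj_le_of_sylow {S : Sylow 3 G}
    (hSz : ∀ g : G, g * L.z * g⁻¹ ∈ (S : Subgroup G) → g * L.z * g⁻¹ ∈ L.J) {g : G}
    (h : L.J.map (MulAut.conj g).toMonoidHom ≤ (S : Subgroup G)) :
    L.J.map (MulAut.conj g).toMonoidHom ≤ L.J := by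
  obtain ⟨A, hA, hspan⟩ := exists_gens L
  have hmem : ∀ k, g * L.jel (A k) * g⁻¹ ∈ L.J := fun k => by
    obtain ⟨b, hb⟩ := isConj_iff.1 (hA k)
    have e : g * L.jel (A k) * g⁻¹ = g * b * L.z * (g * b)⁻¹ := by rw [← hb]; group
    rw [e]
    exact hSz _ (e ▸ h ⟨L.jel (A k), jel_mem L _, rfl⟩)
  rintro _ ⟨x, hx, rfl⟩
  obtain ⟨v, rfl⟩ := (mem_J L).1 hx
  obtain ⟨c, rfl⟩ := hspan v
  rw [jel_add, jel_add, jel_add, jel_smul, jel_smul, jel_smul, jel_smul]
  simp only [MulEquiv.coe_toMonoidHom, map_mul, map_pow, MulAut.conj_apply]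
  exact mul_mem (mul_mem (mul_mem (pow_mem (hmem 0) _) (pow_mem (hmem 1) _)) (pow_mem (hmem 2) _))
    (pow_mem (hmem 3) _)

theorem mem_NJ_of_le {g : G} (h : L.J.map (MulAut.conj g).toMonoidHom ≤ L.J) : g ∈ L.NJ := by
  choose f hf using fun v => (mem_J L).1 (h ⟨L.jel v, jel_mem L v, rfl⟩)
  exact Loc.Act.mem_normalizer (f := f) fun v => (hf v).symm

/-- Two elements of `J` conjugate in `G` are conjugate in the normaliser of `J`. -/
theorem burnside [Finite G] {x g : G} (hx : x ∈ L.J) (hgx : g * x * g⁻¹ ∈ L.J) :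
    ∃ n ∈ L.NJ, n * x * n⁻¹ = g * x * g⁻¹ := by
  haveI : Fact (Nat.Prime 3) := ⟨Nat.prime_three⟩
  set y := g * x * g⁻¹ with hy
  set Cy := Subgroup.centralizer ({y} : Set G)
  have hJ : L.J ≤ Cy := fun j hj => Subgroup.mem_centralizer_singleton_iff.2 (J_comm L hj hgx).eq
  have hJg : L.J.map (MulAut.conj g).toMonoidHom ≤ Cy := by
    rintro _ ⟨j, hj, rfl⟩
    exact Subgroup.mem_centralizer_singleton_iff.2 ((J_comm L hj hx).map (MulAut.conj g).toMonoidHom).eq
  have hp : IsPGroup 3 L.J := IsPGroup.of_card (n := 4) (show Nat.card L.J = 3 ^ 4 from L.card_J)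
  obtain ⟨T, hT⟩ := (hp.comap_of_injective Cy.subtype Cy.subtype_injective).exists_le_sylow
  obtain ⟨T', hT'⟩ := ((hp.map (MulAut.conj g).toMonoidHom).comap_of_injective Cy.subtype
    Cy.subtype_injective).exists_le_sylow
  obtain ⟨c, hc⟩ := MulAction.exists_smul_eq Cy T' T
  obtain ⟨S, -, hSz⟩ := exists_sylow L
  obtain ⟨U, hU⟩ := (T.2.map Cy.subtype).exists_le_sylow
  obtain ⟨h, hh⟩ := MulAction.exists_smul_eq G U S
  have inS : ∀ w ∈ (T : Subgroup Cy), h * (w : G) * h⁻¹ ∈ (S : Subgroup G) := fun w hw => by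
    rw [← hh, Sylow.coe_subgroup_smul, ← MulAut.conj_apply]
    exact Subgroup.smul_mem_pointwise_smul _ _ _ (hU ⟨w, hw, rfl⟩)
  have h1 : h ∈ L.NJ := mem_NJ_of_le L (conj_le_of_sylow L hSz (by
    rintro _ ⟨j, hj, rfl⟩; exact inS ⟨j, hJ hj⟩ (hT hj)))
  have h2 : h * c * g ∈ L.NJ := mem_NJ_of_le L (conj_le_of_sylow L hSz (by
    rintro _ ⟨j, hj, rfl⟩
    have hm : c * ⟨g * j * g⁻¹, hJg ⟨j, hj, rfl⟩⟩ * c⁻¹ ∈ (T : Subgroup Cy) := by
      rw [← hc, Sylow.coe_subgroup_smul, ← MulAut.conj_apply]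
      exact Subgroup.smul_mem_pointwise_smul _ _ _ (hT' ⟨j, hj, rfl⟩)
    simpa [mul_assoc] using inS _ hm))
  refine ⟨(c : G) * g, ?_, ?_⟩
  · rw [show (c : G) * g = h⁻¹ * (h * c * g) by group]
    exact mul_mem (inv_mem h1) h2
  · calc (c : G) * g * x * ((c : G) * g)⁻¹ = c * y * (c : G)⁻¹ := by rw [hy]; group
      _ = y := by rw [Subgroup.mem_centralizer_singleton_iff.1 c.2, mul_inv_cancel_right]

theorem exists_moved [Finite G] {v w : V} (h : IsConj (L.jel v) (L.jel w)) :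
    ∃ n, ∃ f, L.Act n f ∧ f v = w := by
  obtain ⟨g, hg⟩ := isConj_iff.1 h
  obtain ⟨n, hn, e⟩ := burnside L (jel_mem L v) (by rw [hg]; exact jel_mem L w)
  obtain ⟨f, hf⟩ := exists_act_map L hn
  exact ⟨n, f, hf, jel_injective L (by rw [← hf, e, hg])⟩

theorem p₁_mem_Q : L.p₁ ∈ L.Q := Subgroup.subset_closure (by simp)

theorem conj_R0 {v : V} (h3 : v 3 = 0) (h : IsConj L.z (L.jel v)) :
    v = ![1, 0, 0, 0] ∨ v = -![1, 0, 0, 0] := by
  obtain ⟨g, hg⟩ := isConj_iff.1 h
  have hQ : g * L.z * g⁻¹ ∈ Subgroup.closure ({L.z, L.a₁, L.p₁, L.a₂, L.p₂} : Set G) := by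
    rw [hg, Loc.jel, h3]
    simp only [ZMod.val_zero, pow_zero, mul_one]
    exact mul_mem (mul_mem (pow_mem (Subgroup.subset_closure (by simp)) _)
      (pow_mem (Subgroup.subset_closure (by simp)) _)) (pow_mem (Subgroup.subset_closure (by simp)) _)
  let φ := AddMonoidHom.mk' (fun w => Additive.ofMul (L.jel w)) (fun a b => jel_add L a b)
  obtain ⟨k, hk⟩ := Subgroup.mem_zpowers_iff.1 (L.weak_Q g hQ)
  have hv : L.jel (k • ![1, 0, 0, 0]) = L.jel v := by
    rw [← hg, ← hk, ← jel_z L]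
    exact congrArg Additive.toMul (map_zsmul φ k _)
  have hv' := jel_injective L hv
  refine sing_R0 v (fun h0 => ?_) h3 ?_
  · rw [h0, jel_zero] at hg
    exact L.z_ne (conj_eq_one_iff.1 hg)
  · rw [← hv']; simp [qJ]

/-- The linear automorphism of an element of the normaliser. -/
noncomputable def actEquiv (g : L.NJ) : V ≃ₗ[ZMod 3] V :=
  LinearEquiv.ofBijective
    ((AddMonoidHom.mk' _ (exists_act_map L g.2).choose_spec.add).toZModLinearMap 3)
    (exists_act_map L g.2).choose_spec.bijective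

theorem actEquiv_spec (g : L.NJ) : L.Act (g : G) (actEquiv L g) :=
  (exists_act_map L g.2).choose_spec

/-- The action as a homomorphism. -/
noncomputable def actHom : L.NJ →* (V ≃ₗ[ZMod 3] V) :=
  MonoidHom.mk' (actEquiv L) fun g h => LinearEquiv.toEquiv_injective (Equiv.ext fun v =>
    congrFun ((actEquiv_spec L (g * h)).unique ((actEquiv_spec L g).mul (actEquiv_spec L h))) v)

/-- The orbit of `z` on `J`. -/
theorem orbit_dvd [Finite G] (F : Finset V) (hF : ∀ v, v ∈ F ↔ IsConj L.z (L.jel v)) :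
    F.card ∣ 24261120 := by
  have hset : MulAction.orbit (actHom L).range ![(1 : ZMod 3), 0, 0, 0] = (F : Set V) := by
    ext w
    rw [Finset.mem_coe, hF]
    constructor
    · rintro ⟨⟨_, g, rfl⟩, rfl⟩
      show IsConj L.z (L.jel (actEquiv L g _))
      rw [← jel_z L]; exact isConj_of_act L (actEquiv_spec L g) _
    · intro h
      obtain ⟨n, f, hf, e⟩ := exists_moved L (v := ![1, 0, 0, 0]) (jel_z L |>.symm ▸ h)
      exact ⟨⟨_, ⟨n, hf.mem_normalizer⟩, rfl⟩, by rw [← e]; exact congrFun ((actEquiv_spec L _).unique hf) _⟩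
  have hd : Nat.card (MulAction.orbit (actHom L).range ![(1 : ZMod 3), 0, 0, 0]) ∣
      Nat.card (V ≃ₗ[ZMod 3] V) := by
    refine dvd_trans ?_ (Subgroup.card_subgroup_dvd_card (actHom L).range)
    rw [Nat.card_congr (MulAction.orbitEquivQuotientStabilizer _ _)]
    exact Subgroup.index_dvd_card _
  rwa [hset, Nat.card_coe_set_eq, Set.ncard_coe_finset, card_aut_V] at hd

/-- `z` is conjugate to its inverse. -/
theorem conj_inv [Finite G] : IsConj L.z L.z⁻¹ := by
  classical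
  by_contra hne
  let T : Finset (ZMod 3 × Bool) := Finset.univ.filter fun c =>
    IsConj L.z (L.jel (bif c.2 then ![c.1, 0, 0, 1] else -![c.1, 0, 0, 1]))
  set F : Finset V := Finset.univ.filter fun v : V => IsConj L.z (L.jel v) with hFdef
  have hFT : F = Finset.univ.filter
      (fun v : V => v = ![1, 0, 0, 0] ∨ (v 3 ≠ 0 ∧ (qJ v, decide (v 3 = 1)) ∈ T)) := by
    ext v
    simp only [F, T, Finset.mem_filter, Finset.mem_univ, true_and]
    by_cases h3 : v 3 = 0
    · constructor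
      · intro h
        rcases conj_R0 L h3 h with e | e
        · exact Or.inl e
        · rw [e, jel_neg, jel_z] at h; exact absurd h hne
      · rintro (rfl | ⟨h, -⟩)
        · rw [jel_z]
        · exact absurd h3 h
    · obtain ⟨i, j, b, e⟩ := reps_off v h3
      have hb : decide (v 3 = 1) = b := by
        have h := congrFun e 3
        have key : ∀ (i j : Fin 3) (b : Bool) (c : ZMod 3),
            decide ((fp₁^[i] (fp₂^[j] (bif b then ![c, 0, 0, 1] else -![c, 0, 0, 1]))) 3 = 1) = b := by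
          decide +kernel
        rw [h]; exact key i j b _
      have hc : IsConj (L.jel (bif b then ![qJ v, 0, 0, 1] else -![qJ v, 0, 0, 1])) (L.jel v) := by
        conv_rhs => rw [e]
        exact isConj_shift L i j _
      rw [hb]
      constructor
      · exact fun h => Or.inr ⟨h3, h.trans hc.symm⟩
      · rintro (rfl | ⟨-, h⟩)
        · exact absurd rfl h3
        · exact h.trans hc
  have hsum : ∀ {n : G} {f : V → V}, L.Act n f → f (∑ v ∈ F, v) = ∑ v ∈ F, v := by
    intro n f hf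
    have h1 : f (∑ v ∈ F, v) = ∑ v ∈ F, f v := map_sum (AddMonoidHom.mk' f hf.add) _ _
    rw [h1]
    obtain ⟨fi, hfi, hii⟩ := hf.inv
    refine Finset.sum_nbij' f fi ?_ ?_ (fun v _ => hf.injective (hii _)) (fun v _ => hii v) (fun v _ => rfl)
    · intro v hv
      simp only [F, Finset.mem_filter, Finset.mem_univ, true_and] at hv ⊢
      exact hv.trans (isConj_of_act L hf v)
    · intro v hv
      simp only [F, Finset.mem_filter, Finset.mem_univ, true_and] at hv ⊢
      exact hv.trans (isConj_of_act L hfi v)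
  obtain ⟨n, f, hf, e⟩ := exists_moved L (v := ![1, 0, 0, 0]) (w := ![0, 0, 0, 1])
    (by rw [jel_z, jel_y]; exact L.conj_y)
  have h := hsum hf
  rw [hFT, sum_classes, e] at h
  exact absurd h (by decide)

theorem exists_flip [Finite G] : ∃ n f, L.Act n f ∧ f ![1, 0, 0, 0] = -![1, 0, 0, 0] :=
  exists_moved L (by rw [jel_neg, jel_z]; exact conj_inv L)

theorem conj_neg [Finite G] {v : V} (h : IsConj L.z (L.jel v)) : IsConj L.z (L.jel (-v)) := by
  obtain ⟨b, hb⟩ := isConj_iff.1 h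
  refine (conj_inv L).trans (isConj_iff.2 ⟨b, ?_⟩)
  rw [jel_neg, ← hb]; group

theorem conj_pm [Finite G] (b : Bool) {v : V} (h : IsConj L.z (L.jel v)) :
    IsConj L.z (L.jel (bif b then v else -v)) := by
  cases b
  exacts [conj_neg L h, h]

theorem isConj_sing [Finite G] {v : V} (hv : v ≠ 0) (hq : qJ v = 0) : IsConj L.z (L.jel v) := by
  by_cases h3 : v 3 = 0
  · rcases sing_R0 v hv h3 hq with rfl | rfl
    · rw [jel_z]
    · rw [jel_neg, jel_z]; exact conj_inv L
  · obtain ⟨i, j, b, e⟩ := reps_off v h3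
    rw [hq] at e
    rw [e]
    exact (conj_pm L b (by rw [jel_y]; exact L.conj_y)).trans (isConj_shift L i j _)

/-- An element of `J` is conjugate to `z` exactly when it is singular. -/
theorem isConj_z_iff [Finite G] {v : V} (hv : v ≠ 0) : IsConj L.z (L.jel v) ↔ qJ v = 0 := by
  classical
  refine ⟨fun h => ?_, isConj_sing L hv⟩
  let S : Finset (ZMod 3) := Finset.univ.filter fun c => c ≠ 0 ∧ IsConj L.z (L.jel ![c, 0, 0, 1])
  suffices hS : S = ∅ by
    by_cases h3 : v 3 = 0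
    · rcases conj_R0 L h3 h with rfl | rfl <;> decide +kernel
    · by_contra hq
      obtain ⟨i, j, b, e⟩ := reps_off v h3
      have hmem : qJ v ∈ S := Finset.mem_filter.2 ⟨Finset.mem_univ _, hq, by
        rw [e] at h
        have h' := conj_pm L b (h.trans (isConj_shift L i j _).symm)
        cases b <;> simpa using h'⟩
      rw [hS] at hmem
      exact Finset.notMem_empty _ hmem
  by_contra hne
  have h0 : (0 : ZMod 3) ∉ S := fun h => (Finset.mem_filter.1 h).2.1 rfl
  refine count_big S hne h0 (orbit_dvd L _ fun w => ?_)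
  simp only [Finset.mem_filter, Finset.mem_univ, true_and]
  constructor
  · rintro ⟨hw0, hq | ⟨h3, hS'⟩⟩
    · exact isConj_sing L hw0 hq
    · obtain ⟨i, j, b, e⟩ := reps_off w h3
      rw [e]
      exact (conj_pm L b (Finset.mem_filter.1 hS').2.2).trans (isConj_shift L i j _)
  · intro hw
    refine ⟨fun h0 => ?_, ?_⟩
    · rw [h0, jel_zero] at hw
      exact L.z_ne (isConj_one_left.1 hw)
    by_cases h3 : w 3 = 0
    · rcases conj_R0 L h3 hw with rfl | rfl <;> exact Or.inl (by decide +kernel)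
    · by_cases hq : qJ w = 0
      · exact Or.inl hq
      obtain ⟨i, j, b, e⟩ := reps_off w h3
      refine Or.inr ⟨h3, Finset.mem_filter.2 ⟨Finset.mem_univ _, hq, ?_⟩⟩
      rw [e] at hw
      have h' := conj_pm L b (hw.trans (isConj_shift L i j _).symm)
      cases b <;> simpa using h'

end CfsgLib.USixLocal
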